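import Cfsg.Agent.JTH.Rel

set_option autoImplicit false
set_option Elab.async false
set_option maxRecDepth 100000
set_option linter.all false

namespace Cfsg.Agent.JTH
open Cfsg.Agent.CGT

noncomputable def m_n0 : Net := Net.cons 1 0x55555555 <|
  Net.nil
noncomputable def m_n1 : Net := Net.cons 1 0x44444444 <|
  Net.cons 2 0x12121212 <|
  Net.cons 4 0x30c030c <|
  Net.cons 8 0xf000f0 <|
  Net.cons 16 0x5a00 <|
  Net.nil
noncomputable def m_n2 : Net := Net.cons 1 0x50505050 <|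
  Net.cons 2 0x30303030 <|
  Net.cons 4 0xf000f00 <|
  Net.cons 8 0xf000f0 <|
  Net.cons 16 0x3c00 <|
  Net.nil
noncomputable def m_n3 : Net := Net.cons 2 0x33333333 <|
  Net.cons 16 0xaaaa <|
  Net.nil
noncomputable def m_n4 : Net := Net.cons 16 0xffff <|
  Net.nil
noncomputable def m_n5 : Net := Net.cons 8 0xcc00cc <|
  Net.cons 1 0x50505050 <|
  Net.cons 2 0x3300330 <|
  Net.cons 8 0xcc00cc <|
  Net.cons 16 0xcc0 <|
  Net.nil
noncomputable def m_n6 : Net := Net.cons 8 0xcc00cc <|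
  Net.cons 1 0x50505050 <|
  Net.cons 2 0x30033003 <|
  Net.cons 8 0xcc00cc <|
  Net.cons 16 0xf3c0 <|
  Net.nil
noncomputable def m_n7 : Net := Net.cons 2 0x22222222 <|
  Net.cons 1 0x11441144 <|
  Net.cons 2 0x22222222 <|
  Net.cons 4 0xf000f00 <|
  Net.cons 16 0x2288 <|
  Net.nil
noncomputable def m_ns : List Net := [m_n0, m_n1, m_n2, m_n3, m_n4, m_n5, m_n6, m_n7]
theorem m_v : validAll (2 ^ 5) m_ns = true := by decide +kernel
noncomputable def m_t0 : Tab := (.leaf 0xf7f9dd6f19b5e9594e1173d8d52d0931c8510c01)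
noncomputable def m_t1 : Tab := (.leaf 0xf7f9dd6f19b5e9594e1173d8d52d0931c8510c01)
noncomputable def m_t2 : Tab := (.leaf 0x88ea74edbff7358b52500ccb7cafaf7314831040)
noncomputable def m_t3 : Tab := (.leaf 0xc5d36d557464fb2747f041f2651764e0da2f05e0)
noncomputable def m_t4 : Tab := (.leaf 0xa54c7637dfdeb389ca30216d7e75cf5a92818820)
noncomputable def m_t5 : Tab := (.leaf 0xc654bbdab4637df9ca304275b398a4e75cf18820)
noncomputable def m_t6 : Tab := (.leaf 0x6f1fe4e17a2d0f60c072eb3eeca36aa92e688262)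
noncomputable def m_t7 : Tab := (.leaf 0x6f1fe4e17a2d0f60c072eb3eeca36aa92e688262)
noncomputable def m_t8 : Tab := (.leaf 0x7b9ac5a928398a418820ffbbcdeb38bdab49ca30)
noncomputable def m_t9 : Tab := (.leaf 0x7b9ac5a928398a418820ffbbcdeb38bdab49ca30)
noncomputable def m_t10 : Tab := (.leaf 0xa579d5aa7231fdfce2302158dde862b5dcf4a020)
noncomputable def m_t11 : Tab := (.leaf 0xa579d5aa7231fdfce2302158dde862b5dcf4a020)
noncomputable def m_t12 : Tab := (.leaf 0x73cc78c128636959cb7af7ed708338e74851896a)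
noncomputable def m_t13 : Tab := (.leaf 0x73cc78c128636959cb7af7ed708338e74851896a)
noncomputable def m_t14 : Tab := (.leaf 0xc693be79bf3d6d41c65042b2b63bafb94c498440)
noncomputable def m_t15 : Tab := (.leaf 0xc693be79bf3d6d41c65042b2b63bafb94c498440)
noncomputable def m_ts : List Tab := [m_t0, m_t1, m_t2, m_t3, m_t4, m_t5, m_t6, m_t7, m_t8, m_t9, m_t10, m_t11, m_t12, m_t13, m_t14, m_t15]
theorem m_p0 : holdsB 5 m_ns [[0, 0], [2, 2, 2, 2, 2], [4, 4, 4], [3, 4, 3, 4, 3, 4], [2, 4, 2, 4, 2, 4, 2, 4, 2, 4], [2, 2, 4, 2, 2, 4], [0, 4, 1, 5], [6, 4, 7, 5], [8, 8], [0, 2, 0, 2, 0, 2, 0, 2, 0, 2], [8, 2, 9, 3], [2, 0, 3, 7], [0, 6, 0, 6, 9], [2, 5, 2, 2, 11], [6, 10, 6, 13], [2, 4, 3, 5, 2, 15]] = true := by decide +kernel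
theorem m_t0_b : Tab.beq (mkTab 5 0 m_ns 0) m_t0 = true := by decide +kernel
theorem m_t1_b : Tab.beq (mkTab 5 0 m_ns 1) m_t1 = true := by decide +kernel
theorem m_t2_b : Tab.beq (mkTab 5 0 m_ns 2) m_t2 = true := by decide +kernel
theorem m_t3_b : Tab.beq (mkTab 5 0 m_ns 3) m_t3 = true := by decide +kernel
theorem m_t4_b : Tab.beq (mkTab 5 0 m_ns 4) m_t4 = true := by decide +kernel
theorem m_t5_b : Tab.beq (mkTab 5 0 m_ns 5) m_t5 = true := by decide +kernel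
theorem m_t6_b : Tab.beq (mkTab 5 0 m_ns 6) m_t6 = true := by decide +kernel
theorem m_t7_b : Tab.beq (mkTab 5 0 m_ns 7) m_t7 = true := by decide +kernel
theorem m_t8_b : Tab.beq (mkTab 5 0 m_ns 8) m_t8 = true := by decide +kernel
theorem m_t9_b : Tab.beq (mkTab 5 0 m_ns 9) m_t9 = true := by decide +kernel
theorem m_t10_b : Tab.beq (mkTab 5 0 m_ns 10) m_t10 = true := by decide +kernel
theorem m_t11_b : Tab.beq (mkTab 5 0 m_ns 11) m_t11 = true := by decide +kernel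
theorem m_t12_b : Tab.beq (mkTab 5 0 m_ns 12) m_t12 = true := by decide +kernel
theorem m_t13_b : Tab.beq (mkTab 5 0 m_ns 13) m_t13 = true := by decide +kernel
theorem m_t14_b : Tab.beq (mkTab 5 0 m_ns 14) m_t14 = true := by decide +kernel
theorem m_t15_b : Tab.beq (mkTab 5 0 m_ns 15) m_t15 = true := by decide +kernel
theorem m_p : Holds (lp m_ns) RR := (holdsB_sound m_v m_p0)
theorem m_ts_ok : TabsOK 5 (lp m_ns) m_ts :=
  TabsFrom.ok ⟨TabOK.of_beq m_v m_t0_b,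
    TabOK.of_beq m_v m_t1_b,
    TabOK.of_beq m_v m_t2_b,
    TabOK.of_beq m_v m_t3_b,
    TabOK.of_beq m_v m_t4_b,
    TabOK.of_beq m_v m_t5_b,
    TabOK.of_beq m_v m_t6_b,
    TabOK.of_beq m_v m_t7_b,
    TabOK.of_beq m_v m_t8_b,
    TabOK.of_beq m_v m_t9_b,
    TabOK.of_beq m_v m_t10_b,
    TabOK.of_beq m_v m_t11_b,
    TabOK.of_beq m_v m_t12_b,
    TabOK.of_beq m_v m_t13_b,
    TabOK.of_beq m_v m_t14_b,
    TabOK.of_beq m_v m_t15_b,
    Nat.le_of_ble_eq_true (by decide +kernel)⟩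

end Cfsg.Agent.JTH
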